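import Cfsg.Agent.H669.SY.Num
import Cfsg.Agent.H536.T5.HNRow
import Cfsg.Agent.H517.Alt
import Cfsg.Agent.CpAutHN.Pairs

/-!
# S3846: the row of the Harada–Norton group (task 1941)
-/

set_option autoImplicit false

namespace Cfsg.Agent.H669.SY.HN

open Cfsg Subgroup Cfsg.Agent.H459.Rad Cfsg.Agent.H301.SY Cfsg.Agent.SignalizersComponents.ComponentExists
open Cfsg.Agent.HN Cfsg.Agent.HN.Pres Cfsg.Agent.HN.P1408 Cfsg.Agent.HN.H0Basic
open Cfsg.Agent.HN.XWords (W0)
open Cfsg.Agent.KFacts.HN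

theorem not_solvable_A5 : ¬ Group.IsSolvable (alternatingGroup (Fin 5)) := H517.Alt.not_isSolvable_five

theorem rad_A5 : solvableRadical (alternatingGroup (Fin 5)) = ⊥ := by
  have : IsSimpleGroup (alternatingGroup (Fin 5)) := alternatingGroup.isSimpleGroup (by simp)
  exact rad_eq_bot_of_simple not_solvable_A5

/-- a homomorphism of `A₅` into a group, an element `y` of the radical acting on the image as an inner automorphism -/
theorem eq_one_of_rad {L : Type*} [Group L] [Finite L] (φ : alternatingGroup (Fin 5) →* L)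
    (hφ : Function.Injective φ) {y : L} (hy : y ∈ solvableRadical L) {a : alternatingGroup (Fin 5)}
    (h : ∀ x, y * φ x * y⁻¹ = φ (a * x * a⁻¹)) : a = 1 := by
  -- the preimage of the radical
  have h1 : (solvableRadical L).comap φ = ⊥ := by
    rw [eq_bot_iff, ← rad_A5]
    refine le_rad ((rad_normal (G := L)).comap φ) ?_
    have hs := (rad_spec (G := L)).2.1
    exact Group.isSolvable_of_isSolvable_injective
      (f := (φ.comp ((solvableRadical L).comap φ).subtype).codRestrict (solvableRadical L) (fun z => z.2))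
      (fun u v huv => Subtype.ext (hφ (congrArg Subtype.val huv)))
  have h2 : ∀ x, a * x * a⁻¹ * x⁻¹ = 1 := by
    intro x
    have h3 : a * x * a⁻¹ * x⁻¹ ∈ (solvableRadical L).comap φ := by
      rw [mem_comap, map_mul, ← h, map_inv]
      have h4 : y * (φ x * y⁻¹ * (φ x)⁻¹) ∈ solvableRadical L :=
        mul_mem hy ((rad_normal (G := L)).conj_mem _ (inv_mem hy) _)
      have h5 : y * φ x * y⁻¹ * (φ x)⁻¹ = y * (φ x * y⁻¹ * (φ x)⁻¹) := by group
      rw [h5]; exact h4
    rw [h1, mem_bot] at h3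
    exact h3
  exact A5_center fun x => mul_inv_eq_iff_eq_mul.1 (mul_inv_eq_one.1 (h2 x))


/-- the radical of `C(W0) = 2^{1+8}.(A₅ × A₅).2` -/
theorem not_dvd_W0 : ¬ 5 ∣ Nat.card (radIn (centralizer ({W0} : Set Spor.HN))) := by
  have := finite_HN
  have : Fact (Nat.Prime 5) := ⟨Nat.prime_five⟩
  intro hd
  obtain ⟨⟨x, hxR⟩, hx⟩ := exists_prime_orderOf_dvd_card' 5 hd
  have hx5 : orderOf x = 5 := by rw [← Subgroup.orderOf_mk x hxR]; exact hx
  have hxC : x ∈ PP := radIn_le _ hxR
  have hxr : (⟨x, hxC⟩ : PP) ∈ solvableRadical PP := by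
    rw [← mem_radIn_coe]; exact hxR
  have : Finite Lq := Finite.of_surjective _ ρ_surj
  have hy : ρ ⟨x, hxC⟩ ∈ solvableRadical Lq := map_rad_le ρ_surj hxr
  have hx5' : orderOf (⟨x, hxC⟩ : PP) = 5 := by rw [Subgroup.orderOf_mk]; exact hx5
  have h5 : ρ ⟨x, hxC⟩ ^ 5 = 1 := by
    rw [← map_pow, ← hx5', pow_orderOf_eq_one, map_one]
  obtain ⟨a, b, hab⟩ := mem_LL.1 (Cfsg.Agent.CpAutHNFive.LFive.mem_LL_of_five h5)
  have ha : a = 1 := eq_one_of_rad φA φA_inj hy fun x => by
    rw [← hab]; exact Cfsg.Agent.CpAutHN.LqFacts.conj_A a b x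
  have hb : b = 1 := eq_one_of_rad φB φB_inj hy fun x => by
    rw [← hab]; exact Cfsg.Agent.CpAutHN.LqFacts.conj_B a b x
  rw [ha, hb, map_one, map_one, mul_one] at hab
  have h1 : (⟨x, hxC⟩ : PP) ∈ ρ.ker := hab.symm
  have h2 : orderOf (⟨⟨x, hxC⟩, h1⟩ : ρ.ker) ∣ Nat.card ρ.ker := orderOf_dvd_natCard _
  rw [Subgroup.orderOf_mk, hx5', card_ker] at h2
  norm_num at h2

/-- the radical of `C(τ) = 2.HS.2` -/
theorem not_dvd_τ : ¬ 5 ∣ Nat.card (radIn (centralizer ({NormalH.ψ τ} : Set Spor.HN))) := by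
  have := finite_HN
  have : Finite H0 := Nat.finite_of_card_ne_zero (by rw [H0Basic.card_H0]; norm_num)
  have : Fact (Nat.Prime 5) := ⟨Nat.prime_five⟩
  intro hd
  obtain ⟨⟨x, hxR⟩, hx⟩ := exists_prime_orderOf_dvd_card' 5 hd
  have hx5 : orderOf x = 5 := by rw [← Subgroup.orderOf_mk x hxR]; exact hx
  have hxC := radIn_le _ hxR
  obtain ⟨y, rfl⟩ := emb.cent x (mem_centralizer_singleton_iff.1 hxC)
  have hy5 : orderOf y = 5 := by rw [← hx5]; exact (orderOf_injective _ emb.inj y).symm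
  have hψ : ∀ h : H0, NormalH.ψ h ∈ centralizer ({NormalH.ψ τ} : Set Spor.HN) := by
    intro h
    rw [mem_centralizer_singleton_iff, ← map_mul, ← map_mul, emb.comm]
  -- the preimage of the radical in `K`
  let R : Subgroup HS100.K := (radIn (centralizer ({NormalH.ψ τ} : Set Spor.HN))).comap (NormalH.ψ.comp HS100.K.subtype)
  have hRn : R.Normal := ⟨fun n hn g => by
    change NormalH.ψ ((g * n * g⁻¹ : HS100.K) : H0) ∈ radIn _
    have h1 : NormalH.ψ ((g * n * g⁻¹ : HS100.K) : H0) =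
        NormalH.ψ (g : H0) * NormalH.ψ (n : H0) * (NormalH.ψ (g : H0))⁻¹ := by simp
    rw [h1]
    exact radIn_conj_mem (hψ _) hn⟩
  have hRs : Group.IsSolvable R := by
    have hs := radIn_solvable (centralizer ({NormalH.ψ τ} : Set Spor.HN))
    exact Group.isSolvable_of_isSolvable_injective
      (f := ((NormalH.ψ.comp HS100.K.subtype).comp R.subtype).codRestrict (radIn _) (fun z => z.2))
      (fun u v huv => Subtype.ext (Subtype.ext (emb.inj (congrArg Subtype.val huv))))
  have hyK : y ∈ HS100.K := by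
    have h2 : (y ^ 2) ^ 3 = y := by
      rw [← pow_mul, show 2 * 3 = 5 + 1 from rfl, pow_add, ← hy5, pow_orderOf_eq_one, one_mul, pow_one]
    rw [← h2]
    exact HS100.K.pow_mem (Subgroup.sq_mem_of_index_two HS100.K_index y) 3
  have hsQ := (DoubleCover.nonempty_Q H0Basic.card_H0 gx_sq_ne_one).2
  have hcQ := DoubleCover.card_Q H0Basic.card_H0 gx_sq_ne_one
  have : Finite HS100.Q := Nat.finite_of_card_ne_zero (by rw [hcQ]; norm_num)
  have hnsQ : ¬ Group.IsSolvable HS100.Q := by
    intro hs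
    let _ : CommGroup HS100.Q := { (inferInstance : Group HS100.Q) with
      mul_comm := fun a b => (IsSimpleGroup.comm_iff_isSolvable.2 hs) a b }
    have h3 := IsSimpleGroup.prime_card (α := HS100.Q)
    rw [hcQ] at h3
    exact absurd h3 (by norm_num)
  have h4 : R ≤ solvableRadical HS100.K := le_rad hRn hRs
  have h5 := map_rad_le DoubleCover.φK_surj (h4 (show (⟨y, hyK⟩ : HS100.K) ∈ R from hxR))
  rw [rad_eq_bot_of_simple hnsQ, mem_bot] at h5
  have h6 : (⟨y, hyK⟩ : HS100.K) ∈ DoubleCover.φK.ker := h5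
  have h7 : orderOf (⟨⟨y, hyK⟩, h6⟩ : DoubleCover.φK.ker) ∣ Nat.card DoubleCover.φK.ker := orderOf_dvd_natCard _
  rw [Subgroup.orderOf_mk, Subgroup.orderOf_mk, hy5, DoubleCover.card_ker H0Basic.card_H0 gx_sq_ne_one] at h7
  norm_num at h7

theorem center_eq_bot : center Spor.HN = ⊥ := Cfsg.Agent.CpAutHNFive.Main.center_HN

/-- **`p = 5`** -/
theorem noE_five [Fact (Nat.Prime 5)] : NoE 5 Spor.HN := by
  have hfin := finite_HN
  refine NoE.of_even center_eq_bot fun x hx => ?_
  obtain ⟨_, _, _, _, _, _, D⟩ := H536.T5.dat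
  obtain ⟨s, hs2, hs1, hsx⟩ := D.exists_inv (by rw [H536.T5.card_HN]; norm_num) hx
  have : Fact (Nat.Prime 2) := ⟨Nat.prime_two⟩
  have hs : orderOf s = 2 := orderOf_eq_prime (by rw [pow_two]; exact hs2) hs1
  have hrad : ∀ a : Spor.HN, ¬ 5 ∣ Nat.card (radIn (centralizer ({a} : Set Spor.HN))) → IsConj s a →
      ¬ 5 ∣ Nat.card (radIn (centralizer ({s} : Set Spor.HN))) := by
    intro a ha hsa
    obtain ⟨c, hc⟩ := isConj_iff.1 hsa
    have h1 : (centralizer ({s} : Set Spor.HN)).map (MulAut.conj c).toMonoidHom = centralizer ({a} : Set Spor.HN) := by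
      rw [Cfsg.Agent.CpAutHNFive.TauFive.map_centralizer, hc]
    rw [← h1, radIn_conj, Subgroup.card_map_of_injective (MulAut.conj c).injective] at ha
    exact ha
  refine ⟨s, hs1, ?_, ?_⟩
  · exact hsx
  · rcases Classes.inv_class hs with h | h
    · exact hrad _ not_dvd_τ h
    · exact hrad _ not_dvd_W0 h

theorem card_HN : Nat.card Spor.HN = 273030912000000 := H536.T5.card_HN

/-- `p ∣ |A₁₂|`, `p ^ 2 ∤ |HN|` -/
theorem lw_alt {p : ℕ} [Fact p.Prime] (hp : p ∣ Nat.card (alternatingGroup (Fin 12))) : Lw p Spor.HN := by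
  have hfin := finite_HN
  have : IsSimpleGroup (alternatingGroup (Fin 12)) := alternatingGroup.isSimpleGroup (by simp)
  refine Lw.of_simple (Q := alternatingGroup (Fin 12)) (H517.Alt.not_isSolvable (by norm_num)) hp
    Cfsg.Agent.CpAutHN.Alt.Φ Cfsg.Agent.CpAutHN.Alt.Φ_inj ?_
  intro hs
  have h1 := Nat.card_congr (Equiv.ofBijective _ ⟨Cfsg.Agent.CpAutHN.Alt.Φ_inj, hs⟩)
  rw [card_HN] at h1
  have h2 : Nat.card (alternatingGroup (Fin 12)) = 239500800 := by
    rw [nat_card_alternatingGroup, Nat.card_eq_fintype_card, Fintype.card_fin]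
    decide
  rw [h2] at h1
  norm_num at h1

end Cfsg.Agent.H669.SY.HN

namespace Cfsg.Agent.H669.SY

open Cfsg Subgroup Cfsg.Agent.H459.Rad Cfsg.Agent.H301.SY

theorem card_A12 : Nat.card (alternatingGroup (Fin 12)) = 239500800 := by
  rw [nat_card_alternatingGroup, Nat.card_eq_fintype_card, Fintype.card_fin]
  decide

/-- **task 1941** -/
theorem noE_hn {K : Type*} [Group K] [Finite K] [IsSimpleGroup K] (h : Cfsg.Spor.IsoHN K) {p : ℕ} [hp : Fact p.Prime]
    (h5 : 5 ≤ p) (hb : Cfsg.Agent.H301.SY.Blk p K) (hO : Cfsg.Agent.H301.SY.ThO p K) : Cfsg.Agent.H301.SY.NoE p K := by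
  obtain ⟨e⟩ := h
  have hfin := Cfsg.Agent.KFacts.HN.finite_HN
  have hcard : Nat.card K = 273030912000000 := (Nat.card_congr e.toEquiv).trans HN.card_HN
  have hna : ¬ IsMulCommutative K := by
    rintro ⟨⟨h⟩⟩
    let _ : CommGroup K := { (inferInstance : Group K) with mul_comm := h }
    have h3 := IsSimpleGroup.prime_card (α := K)
    rw [hcard] at h3
    exact absurd h3 (by norm_num)
  by_cases hd : p ∣ 273030912000000
  swap
  · exact NoE.of_not_dvd (by rwa [hcard])
  have hps : p = 5 ∨ p = 7 ∨ p = 11 ∨ p = 19 := by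
    have h1 : p ∈ Nat.primeFactors 273030912000000 := Nat.mem_primeFactors.2 ⟨hp.out, hd, by norm_num⟩
    have h2 : Nat.primeFactors 273030912000000 = {2, 3, 5, 7, 11, 19} := by
      rw [show (273030912000000 : ℕ) = 2 ^ 14 * (3 ^ 6 * (5 ^ 6 * (7 * (11 * 19)))) by norm_num]
      rw [Nat.primeFactors_mul (by norm_num) (by norm_num), Nat.primeFactors_mul (by norm_num) (by norm_num),
        Nat.primeFactors_mul (by norm_num) (by norm_num), Nat.primeFactors_mul (by norm_num) (by norm_num),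
        Nat.primeFactors_mul (by norm_num) (by norm_num),
        Nat.primeFactors_prime_pow (by norm_num) (by norm_num), Nat.primeFactors_prime_pow (by norm_num) (by norm_num),
        Nat.primeFactors_prime_pow (by norm_num) (by norm_num),
        Nat.Prime.primeFactors (by norm_num), Nat.Prime.primeFactors (by norm_num), Nat.Prime.primeFactors (by norm_num)]
      rfl
    rw [h2] at h1
    simp only [Finset.mem_insert, Finset.mem_singleton] at h1
    omega
  rcases hps with rfl | rfl | rfl | rfl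
  · exact HN.noE_five.congr e
  · exact NoE.congr e (NoE.of_lw (cyclic_of_card (by rw [HN.card_HN]; norm_num)) (HN.lw_alt (by rw [card_A12]; norm_num)))
  · exact NoE.congr e (NoE.of_lw (cyclic_of_card (by rw [HN.card_HN]; norm_num)) (HN.lw_alt (by rw [card_A12]; norm_num)))
  · have hcyc : ∀ P : Sylow 19 K, IsCyclic (P : Subgroup K) := cyclic_of_card (by rw [hcard]; norm_num)
    refine NoE.of_m0 hna hcyc fun x hx hR hY => m0_num hcyc hb hO hx hR hY fun t ht htp htd => Or.inl ?_
    rw [hcard]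
    have h1 : t ∈ Nat.primeFactors 18 := Nat.mem_primeFactors.2 ⟨ht, htd, by norm_num⟩
    have h2 : Nat.primeFactors 18 = {2, 3} := by decide +kernel
    rw [h2] at h1
    simp only [Finset.mem_insert, Finset.mem_singleton] at h1
    rcases h1 with rfl | rfl
    · exact left_of (m := 14) (by norm_num) (by norm_num) (by decide)
    · exact left_of (m := 6) (by norm_num) (by norm_num) (by decide)

end Cfsg.Agent.H669.SY
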