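import Cfsg.Agent.H669.SY.Num
import Cfsg.Agent.H513.NilpTh
import Cfsg.Agent.MonsterX.ThOneClass
import Cfsg.Agent.ThType.Seven
import Cfsg.Agent.S0205

/-!
# S3846: the row of the Thompson group (task 1942)
-/

set_option autoImplicit false

namespace Cfsg.Agent.H669.SY.Th

open Cfsg Subgroup Cfsg.Agent.H459.Rad Cfsg.Agent.H301.SY Cfsg.Agent.SignalizersComponents.ComponentExists
open Cfsg.Agent.Th Cfsg.Agent.Th.Word Cfsg.Agent.Th.IndexUpper Cfsg.Agent.MonsterX.ThOneClass

theorem e_ne : gTh 5 ≠ 1 := by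
  intro he
  have R := gTh_relK
  have h1 := R.de3
  rw [he, mul_one] at h1
  have hd : gTh 4 = 1 := by
    have h2 := R.d2
    have h3 : gTh 4 ^ 3 = gTh 4 ^ 2 * gTh 4 := pow_succ _ _
    rw [h1, h2, one_mul] at h3
    exact h3.symm
  have h2 := R.acd
  rw [hd, mul_one] at h2
  have h4 : gTh 3 ^ 4 = 1 := by
    rw [show (4 : ℕ) = 2 * 2 from rfl, pow_mul, R.c2, one_pow]
  rw [h4, inv_one, mul_one] at h2
  exact Main475.a_ne_one h2

/-- the subgroup `³D₄(2):3` is not solvable -/
theorem not_solvable_K : ¬ Group.IsSolvable (sub gTh isK) := by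
  intro hs
  have R := gTh_relK
  let H : Subgroup Spor.Th := closure {gTh 4, gTh 5, gTh 6}
  have hd : gTh 4 ∈ H := subset_closure (by simp)
  have he : gTh 5 ∈ H := subset_closure (by simp)
  have hss : gTh 6 ∈ H := subset_closure (by simp)
  have hle : H ≤ sub gTh isK := by
    rw [closure_le]
    rintro x (rfl | rfl | rfl)
    · exact subset_closure ⟨4, rfl, rfl⟩
    · exact subset_closure ⟨5, rfl, rfl⟩
    · exact subset_closure ⟨6, rfl, rfl⟩
  have hH : Group.IsSolvable H := isSolvable_of_le hle hs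
  have hnt : Nontrivial H := ⟨⟨gTh 5, he⟩, 1, fun h => e_ne (congrArg Subtype.val h)⟩
  have hlt := Group.IsSolvable.commutator_lt_top_of_nontrivial H
  apply hlt.ne
  -- the abelianization is trivial
  let φ := Abelianization.of (G := H)
  have hes := congrArg φ (show ((⟨gTh 5, he⟩ : H)⁻¹ * (⟨gTh 6, hss⟩ : H)⁻¹ * ⟨gTh 5, he⟩ * ⟨gTh 6, hss⟩) *
    (((⟨gTh 6, hss⟩ : H) ^ 3)⁻¹ * ⟨gTh 5, he⟩ * (⟨gTh 6, hss⟩ : H) ^ 3)⁻¹ = 1 from Subtype.ext R.es)
  have hde := congrArg φ (show ((⟨gTh 4, hd⟩ : H) * ⟨gTh 5, he⟩) ^ 3 = 1 from Subtype.ext R.de3)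
  have hd2 := congrArg φ (show ((⟨gTh 4, hd⟩ : H)) ^ 2 = 1 from Subtype.ext R.d2)
  have hsd := congrArg φ (show ((⟨gTh 6, hss⟩ : H) * ⟨gTh 4, hd⟩) ^ 2 = 1 from Subtype.ext R.sd2)
  have hs7 := congrArg φ (show (⟨gTh 6, hss⟩ : H) ^ 7 = 1 from Subtype.ext R.s7)
  simp only [map_mul, map_inv, map_pow, map_one] at hes hde hd2 hsd hs7
  set D := φ ⟨gTh 4, hd⟩
  set E := φ ⟨gTh 5, he⟩
  set S := φ ⟨gTh 6, hss⟩
  have hE : E = 1 := by
    have h1 : E⁻¹ * S⁻¹ * E * S * ((S ^ 3)⁻¹ * E * S ^ 3)⁻¹ = E⁻¹ := by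
      rw [mul_comm ((S ^ 3)⁻¹) E, inv_mul_cancel_right, mul_comm E⁻¹ S⁻¹, inv_mul_cancel_right, inv_mul_cancel, one_mul]
    rw [h1] at hes
    exact inv_eq_one.1 hes
  have hD : D = 1 := by
    rw [hE, mul_one, pow_succ, hd2, one_mul] at hde
    exact hde
  have hS : S = 1 := by
    rw [hD, mul_one] at hsd
    have h1 : S ^ 7 = (S ^ 2) ^ 3 * S := by rw [← pow_mul, ← pow_succ]
    rw [h1, hsd, one_pow, one_mul] at hs7
    exact hs7
  rw [eq_top_iff]
  have hcl : closure ({⟨gTh 4, hd⟩, ⟨gTh 5, he⟩, ⟨gTh 6, hss⟩} : Set H) = ⊤ := by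
    have h1 : closure (H.subtype '' ({⟨gTh 4, hd⟩, ⟨gTh 5, he⟩, ⟨gTh 6, hss⟩} : Set H)) = H := by
      simp only [Set.image_insert_eq, Set.image_singleton]
      rfl
    rw [← MonoidHom.map_closure] at h1
    rw [eq_top_iff]
    intro x _
    have h2 : (x : Spor.Th) ∈ (closure ({⟨gTh 4, hd⟩, ⟨gTh 5, he⟩, ⟨gTh 6, hss⟩} : Set H)).map H.subtype := by
      rw [h1]; exact x.2
    obtain ⟨y, hy, h3⟩ := h2
    rwa [← Subtype.ext h3]
  rw [← hcl, closure_le]
  have hker : ∀ x : H, φ x = 1 → x ∈ commutator H := by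
    intro x hx
    have h1 : x ∈ φ.ker := hx
    rwa [Abelianization.ker_of] at h1
  rintro x (rfl | rfl | rfl)
  · exact hker _ hD
  · exact hker _ hE
  · exact hker _ hS

theorem card_K : Nat.card (sub gTh isK) = 634023936 := Main1700.final.2.2.1

theorem smallCent : SmallCent 2 2 Spor.Th := by
  obtain ⟨Q, -, h1, h2, h3, -⟩ := struct
  have := H513.NilpTh.finite
  exact smallCent_of_extraspecial Q (IsPGroup.of_card h1) h3 h2.2.le

theorem nonab : NonabP 5 Spor.Th := by
  refine ⟨H502.ThFiveP.P5, H502.ThFiveP.isPGroup_P5, H502.ThFiveP.x, H502.ThFiveP.x_mem, H502.ThFiveP.y,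
    H502.ThFiveP.y_mem, fun h => ?_⟩
  have h1 := H502.ThFiveP.xy
  rw [h] at h1
  exact H513.NilpTh.z1 (mul_eq_left.1 h1.symm)

theorem radC {p : ℕ} (hp : ¬ p ∣ 2 ^ 9) [Fact p.Prime] :
    ¬ p ∣ Nat.card (radIn (centralizer ({gTh 1} : Set Spor.Th))) := by
  have := H513.NilpTh.finite
  obtain ⟨Q, hn, h1, -, -, ⟨e⟩⟩ := struct
  have hs : IsSimpleGroup (alternatingGroup (Fin 9)) := alternatingGroup.isSimpleGroup (by simp)
  refine not_dvd_radIn Q ?_ e (by rw [h1]; exact hp)
  apply not_solvable_of_simple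
  rintro ⟨⟨h⟩⟩
  have h2 := h ⟨Equiv.swap 0 1 * Equiv.swap 1 2, by simp [Equiv.Perm.mem_alternatingGroup]⟩
    ⟨Equiv.swap 0 1 * Equiv.swap 1 3, by simp [Equiv.Perm.mem_alternatingGroup]⟩
  have h3 := congrArg (fun s : alternatingGroup (Fin 9) => (s : Equiv.Perm (Fin 9)) 0) h2
  revert h3
  decide

/-- solvable normalizers -/
theorem solv_normalizer {r : ℕ} (hr : r.Prime) (hrC : ¬ r ∣ 92897280) (hr2 : ¬ r * r ∣ 90745943887872000) {x : Spor.Th}
    (hx : orderOf x = r) : Group.IsSolvable (normalizer ((zpowers x : Subgroup Spor.Th) : Set Spor.Th)) := by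
  have := H513.NilpTh.finite
  apply isSolvable_normalizer
  apply S0205.result
  have h1 := H513.NilpTh.cent_dvd hr hx hrC hr2
  exact Odd.of_dvd_nat (by decide) h1

theorem thirteen : Lw 13 Spor.Th := by
  have := H513.NilpTh.finite
  have : Fact (Nat.Prime 13) := ⟨by norm_num⟩
  refine Lw.of_nonsolv (L := sub gTh isK) ?_ (by rw [card_K]; norm_num) not_solvable_K
    (by rw [H513.NilpTh.card]; norm_num) fun x hx => solv_normalizer (by norm_num) (by norm_num) (by norm_num) hx
  intro h
  have h1 := card_K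
  rw [h, Nat.card_congr Subgroup.topEquiv.toEquiv, H513.NilpTh.card] at h1
  norm_num at h1

theorem noE_five_seven {p : ℕ} [hp : Fact p.Prime] (h : p = 5 ∨ p = 7) : NoE p Spor.Th := by
  have := H513.NilpTh.finite
  refine NoE.of_class Main1700.center_eq_bot Main475.a_ne_one (radC ?_) fun x hx => ?_
  · rcases h with rfl | rfl <;> norm_num
  · have h1 : ∃ t : Spor.Th, orderOf t = 2 ∧ t * x = x * t := by
      rcases h with rfl | rfl
      · exact H513.NilpTh.involution x hx
      · exact ThType.Seven.exists_involution_Th Main1700.isTh hx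
    obtain ⟨t, ht, htx⟩ := h1
    exact ⟨t, oneClass _ _ orderOf_a ht, htx⟩

end Cfsg.Agent.H669.SY.Th

namespace Cfsg.Agent.H669.SY

open Cfsg Subgroup Cfsg.Agent.H459.Rad Cfsg.Agent.H301.SY

/-- **task 1942** -/
theorem noE_th {K : Type*} [Group K] [Finite K] [IsSimpleGroup K] (h : Cfsg.Spor.IsoTh K) {p : ℕ} [hp : Fact p.Prime]
    (h5 : 5 ≤ p) (hb : Cfsg.Agent.H301.SY.Blk p K) (hO : Cfsg.Agent.H301.SY.ThO p K) : Cfsg.Agent.H301.SY.NoE p K := by
  obtain ⟨e⟩ := h
  have := H513.NilpTh.finite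
  have hcard : Nat.card K = 90745943887872000 := (Nat.card_congr e.toEquiv).trans H513.NilpTh.card
  have hna : ¬ IsMulCommutative K := by
    rintro ⟨⟨h⟩⟩
    apply Cfsg.Agent.H669.SY.Th.not_solvable_K
    have h1 : Group.IsSolvable K := Group.isSolvable_of_comm h
    have h2 : Group.IsSolvable Spor.Th := Group.isSolvable_of_surjective (f := e.toMonoidHom) e.surjective
    infer_instance
  by_cases hd : p ∣ 90745943887872000
  swap
  · exact NoE.of_not_dvd (by rwa [hcard])
  have hps : p = 5 ∨ p = 7 ∨ p = 13 ∨ p = 19 ∨ p = 31 := by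
    have h1 : p ∈ Nat.primeFactors 90745943887872000 := Nat.mem_primeFactors.2 ⟨hp.out, hd, by norm_num⟩
    have h2 : Nat.primeFactors 90745943887872000 = {2, 3, 5, 7, 13, 19, 31} := by
      rw [show (90745943887872000 : ℕ) = 2 ^ 15 * (3 ^ 10 * (5 ^ 3 * (7 ^ 2 * (13 * (19 * 31))))) by norm_num]
      rw [Nat.primeFactors_mul (by norm_num) (by norm_num), Nat.primeFactors_mul (by norm_num) (by norm_num),
        Nat.primeFactors_mul (by norm_num) (by norm_num), Nat.primeFactors_mul (by norm_num) (by norm_num),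
        Nat.primeFactors_mul (by norm_num) (by norm_num), Nat.primeFactors_mul (by norm_num) (by norm_num),
        Nat.primeFactors_prime_pow (by norm_num) (by norm_num), Nat.primeFactors_prime_pow (by norm_num) (by norm_num),
        Nat.primeFactors_prime_pow (by norm_num) (by norm_num), Nat.primeFactors_prime_pow (by norm_num) (by norm_num),
        Nat.Prime.primeFactors (by norm_num), Nat.Prime.primeFactors (by norm_num), Nat.Prime.primeFactors (by norm_num)]
      rfl
    rw [h2] at h1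
    simp only [Finset.mem_insert, Finset.mem_singleton] at h1
    omega
  rcases hps with rfl | rfl | rfl | rfl | rfl
  · exact (Th.noE_five_seven (Or.inl rfl)).congr e
  · exact (Th.noE_five_seven (Or.inr rfl)).congr e
  · refine NoE.congr e (NoE.of_lw (cyclic_of_card (by rw [H513.NilpTh.card]; norm_num)) Th.thirteen)
  · have hcyc : ∀ P : Sylow 19 K, IsCyclic (P : Subgroup K) := cyclic_of_card (by rw [hcard]; norm_num)
    refine NoE.of_m0 hna hcyc fun x hx hR hY => m0_num hcyc hb hO hx hR hY fun t ht htp htd => Or.inl ?_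
    rw [hcard]
    have h1 : t ∈ Nat.primeFactors 18 := Nat.mem_primeFactors.2 ⟨ht, htd, by norm_num⟩
    have h2 : Nat.primeFactors 18 = {2, 3} := by decide +kernel
    rw [h2] at h1
    simp only [Finset.mem_insert, Finset.mem_singleton] at h1
    rcases h1 with rfl | rfl
    · exact left_of (m := 15) (by norm_num) (by norm_num) (by decide)
    · exact left_of (m := 10) (by norm_num) (by norm_num) (by decide)
  · have hcyc : ∀ P : Sylow 31 K, IsCyclic (P : Subgroup K) := cyclic_of_card (by rw [hcard]; norm_num)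
    refine NoE.of_m0 hna hcyc fun x hx hR hY => m0_num hcyc hb hO hx hR hY fun t ht htp htd => ?_
    have hC : Nat.card (centralizer ({x} : Set K)) ∣ 3 ^ 10 * 7 ^ 2 * 13 * 19 * 31 := by
      rw [card_centralizer e]
      exact H513.NilpTh.cent_dvd (r := 31) (by norm_num)
        ((orderOf_injective e.toMonoidHom e.injective x).trans hx) (by norm_num) (by norm_num)
    have h1 : t ∈ Nat.primeFactors 30 := Nat.mem_primeFactors.2 ⟨ht, htd, by norm_num⟩
    have h2 : Nat.primeFactors 30 = {2, 3, 5} := by decide +kernel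
    rw [h2] at h1
    simp only [Finset.mem_insert, Finset.mem_singleton] at h1
    rcases h1 with rfl | rfl | rfl
    · right
      refine ⟨fun h => absurd (h.trans hC) (by norm_num), ?_⟩
      refine right_of_smallCent (k := 15) (m := 90745943887872000 / 2 ^ 15) (c := 2) (by norm_num)
        (by rw [hcard]; norm_num) (by norm_num) (Th.smallCent.congr e) ?_
      intro a j n haj ha hj hn0 hn hna'
      have hj1 : j ≤ 1 := by
        by_contra hc
        have := (pow_dvd_pow 2 (by omega : 2 ≤ j)).trans hj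
        norm_num at this
      have hj0 : j = 0 := by
        by_contra hc
        have ha' : a = 14 := by omega
        rw [ha'] at ha
        norm_num at ha
      subst hj0
      have hn5 : 5 ≤ n := by
        by_contra hc
        have : n < 5 := by omega
        interval_cases n <;> norm_num at hn
      have h3 : 2 ^ 5 ≤ 2 ^ n := Nat.pow_le_pow_right (by norm_num) hn5
      norm_num at h3 ⊢
      omega
    · left
      rw [hcard]
      exact left_of (m := 10) (by norm_num) (by norm_num) (by decide)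
    · right
      refine ⟨fun h => absurd (h.trans hC) (by norm_num), ?_⟩
      refine right_of_nonab (k := 3) (m := 90745943887872000 / 5 ^ 3) (by norm_num)
        (by rw [hcard]; norm_num) (by norm_num) (Th.nonab.congr e) ?_
      intro a j n haj ha hj hn0 hn hna' c hc
      have hj1 : j ≤ 1 := by
        by_contra hc
        have := (pow_dvd_pow 5 (by omega : 2 ≤ j)).trans hj
        norm_num at this
      have hj0 : j = 0 := by
        by_contra hc
        have ha' : a = 2 := by omega
        rw [ha'] at ha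
        norm_num at ha
      subst hj0
      have hn3 : n = 3 := by
        have : n ≤ 3 := by omega
        interval_cases n
        · norm_num at hn
        · norm_num at hn
        · rfl
      subst hn3
      rw [pow_zero, pow_one]
      omega

end Cfsg.Agent.H669.SY
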