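import Cfsg.Agent.H301.SY.Spor

/-!
# S3846: further criteria (helper669)

* `NoE.of_class` : every element of order `p` is conjugate into `C(a)`, `p ∤ |Rad C(a)|`;
* `not_dvd_radIn` : `C / Q` simple non-abelian, `p ∤ |Q|`;
* `Lw.of_nonsolv` : a proper nonsolvable subgroup of order divisible by `p`, `p ^ 2 ∤ |K|`, normalizers of the
  subgroups of order `p` solvable;
* `NoE.of_not_dvd` : `p ∤ |K|`.
-/

set_option autoImplicit false
set_option linter.unusedSectionVars false

namespace Cfsg.Agent.H669.SY

open Cfsg Subgroup Cfsg.Agent.H459.Rad Cfsg.Agent.H301.SY Cfsg.Agent.SignalizersComponents.ComponentExists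

variable {K : Type*} [Group K] [Finite K] {p : ℕ} [hp : Fact p.Prime]

theorem NoE.of_not_dvd (h : ¬ p ∣ Nat.card K) : NoE p K := fun x hx _ _ => h (hx ▸ orderOf_dvd_natCard x)

/-- every element of order `p` has a conjugate in the proper subgroup `L` -/
theorem NoE.of_conj {L : Subgroup K} (hL : L ≠ ⊤) (hr : ¬ p ∣ Nat.card (radIn L))
    (h : ∀ x : K, orderOf x = p → ∃ g : K, g * x * g⁻¹ ∈ L) : NoE p K := by
  refine NoE.of_sub fun x hx => ?_
  obtain ⟨g, hg⟩ := h x hx
  refine ⟨L.map (MulAut.conj g⁻¹).toMonoidHom, ?_, ⟨g * x * g⁻¹, hg, ?_⟩, ?_⟩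
  · intro h1
    apply hL
    rw [eq_top_iff]
    intro y _
    have h2 : MulAut.conj g⁻¹ y ∈ L.map (MulAut.conj g⁻¹).toMonoidHom := by rw [h1]; exact mem_top _
    obtain ⟨z, hz, h3⟩ := h2
    have h4 : z = y := (MulAut.conj g⁻¹).injective h3
    rwa [← h4]
  · change g⁻¹ * (g * x * g⁻¹) * g⁻¹⁻¹ = x
    group
  · rw [radIn_conj, Subgroup.card_map_of_injective (MulAut.conj g⁻¹).injective]
    exact hr

/-- every element of order `p` commutes with a conjugate of `a` -/
theorem NoE.of_class (hZ : center K = ⊥) {a : K} (ha : a ≠ 1)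
    (hr : ¬ p ∣ Nat.card (radIn (centralizer ({a} : Set K))))
    (h : ∀ x : K, orderOf x = p → ∃ t : K, IsConj a t ∧ t * x = x * t) : NoE p K := by
  refine NoE.of_conj (L := centralizer ({a} : Set K)) ?_ hr fun x hx => ?_
  · intro h1
    apply ha
    have h2 : a ∈ center K := by
      rw [mem_center_iff]
      intro g
      exact (mem_centralizer_iff.1 (show g ∈ centralizer ({a} : Set K) by rw [h1]; exact mem_top _) a rfl).symm
    rwa [hZ, mem_bot] at h2
  · obtain ⟨t, hat, htx⟩ := h x hx
    obtain ⟨c, hc⟩ := isConj_iff.1 hat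
    refine ⟨c⁻¹, ?_⟩
    rw [mem_centralizer_singleton_iff]
    have h1 : a = c⁻¹ * t * c := by rw [← hc]; group
    rw [h1]
    calc c⁻¹ * x * c⁻¹⁻¹ * (c⁻¹ * t * c) = c⁻¹ * (x * t) * c := by group
      _ = c⁻¹ * (t * x) * c := by rw [htx]
      _ = _ := by group

/-- the radical of an extension of a `p'`-group by a group without radical -/
theorem not_dvd_radIn_of_hom {C : Subgroup K} {T : Type*} [Group T] [Finite T] (f : C →* T)
    (hf : Function.Surjective f) (hT : solvableRadical T = ⊥) (hk : ¬ p ∣ Nat.card f.ker) :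
    ¬ p ∣ Nat.card (radIn C) := by
  intro h
  apply hk
  have h1 : solvableRadical C ≤ f.ker := by
    intro z hz
    have h2 := map_rad_le hf hz
    rw [hT, mem_bot] at h2
    exact h2
  have h2 : Nat.card (radIn C) = Nat.card (solvableRadical C) :=
    Subgroup.card_map_of_injective C.subtype_injective
  rw [h2] at h
  exact h.trans (Subgroup.card_dvd_of_le h1)

theorem not_solvable_of_simple {T : Type*} [Group T] [IsSimpleGroup T] (h : ¬ IsMulCommutative T) :
    ¬ Group.IsSolvable T := fun hs => h ⟨⟨fun a b => (IsSimpleGroup.comm_iff_isSolvable.2 hs) a b⟩⟩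

theorem not_dvd_radIn {C : Subgroup K} (Q : Subgroup C) [Q.Normal] {T : Type*} [Group T] [Finite T] [IsSimpleGroup T]
    (hT : ¬ Group.IsSolvable T) (e : C ⧸ Q ≃* T) (hQ : ¬ p ∣ Nat.card Q) : ¬ p ∣ Nat.card (radIn C) := by
  refine not_dvd_radIn_of_hom (e.toMonoidHom.comp (QuotientGroup.mk' Q))
    (e.surjective.comp (QuotientGroup.mk'_surjective Q)) (rad_eq_bot_of_simple hT) ?_
  have h1 : (e.toMonoidHom.comp (QuotientGroup.mk' Q)).ker = Q := by
    ext z
    rw [MonoidHom.mem_ker]
    change e (QuotientGroup.mk' Q z) = 1 ↔ _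
    rw [map_eq_one_iff e e.injective]
    exact QuotientGroup.eq_one_iff z
  rw [h1]
  exact hQ

/-- the normalizer of a group of prime order with centralizer solvable is solvable -/
theorem isSolvable_normalizer {x : K} (h : Group.IsSolvable (centralizer ({x} : Set K))) :
    Group.IsSolvable (normalizer ((zpowers x : Subgroup K) : Set K)) := by
  let f := (zpowers x).normalizerMonoidHom
  have hker : Group.IsSolvable f.ker := by
    have h1 : f.ker.map (normalizer ((zpowers x : Subgroup K) : Set K)).subtype ≤ centralizer ({x} : Set K) := by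
      rintro _ ⟨y, hy, rfl⟩
      rw [mem_centralizer_singleton_iff]
      have h2 : f y ⟨x, mem_zpowers x⟩ = ⟨x, mem_zpowers x⟩ := by
        have h3 : f y = 1 := hy
        rw [h3]; rfl
      have h3 : (y : K) * x * (y : K)⁻¹ = x := congrArg Subtype.val h2
      exact mul_inv_eq_iff_eq_mul.1 h3
    have h2 := isSolvable_of_le h1 h
    exact Group.isSolvable_of_isSolvable_injective
      (f := (f.ker.equivMapOfInjective (normalizer ((zpowers x : Subgroup K) : Set K)).subtype
        (Subgroup.subtype_injective _)).toMonoidHom) (MulEquiv.injective _)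
  have hcomm : Group.IsSolvable (MulAut (zpowers x)) := by
    have e : MulAut (zpowers x) ≃* (ZMod (Nat.card (zpowers x)))ˣ := IsCyclic.mulAutMulEquiv _
    exact Group.isSolvable_of_isSolvable_injective (f := e.toMonoidHom) e.injective
  exact Group.isSolvable_of_ker_le_range (f.ker.subtype) f (by rw [Subgroup.range_subtype])

/-- **a nonsolvable proper subgroup** -/
theorem Lw.of_nonsolv {L : Subgroup K} (hL : L ≠ ⊤) (hpL : p ∣ Nat.card L) (hns : ¬ Group.IsSolvable L)
    (h2 : ¬ p ^ 2 ∣ Nat.card K)
    (hN : ∀ x : K, orderOf x = p → Group.IsSolvable (normalizer ((zpowers x : Subgroup K) : Set K))) : Lw p K := by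
  refine ⟨L, hL, hpL, fun hd => hns ?_⟩
  have hc : Nat.card (radIn L) = Nat.card (solvableRadical L) :=
    Subgroup.card_map_of_injective L.subtype_injective
  rw [hc] at hd
  obtain ⟨P⟩ : Nonempty (Sylow p (solvableRadical L)) := inferInstance
  have hF := Sylow.normalizer_sup_eq_top (N := solvableRadical L) P
  set P' : Subgroup L := (P : Subgroup (solvableRadical L)).map (solvableRadical L).subtype with hP'
  -- `P'` is generated by an element of order `p`
  have hcard : Nat.card P' = p := by
    have h1 : Nat.card P' = Nat.card P := Subgroup.card_map_of_injective (Subgroup.subtype_injective _)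
    obtain ⟨n, hn⟩ := P.isPGroup'.exists_card_eq
    have h3 : Nat.card P' ∣ Nat.card K :=
      (Subgroup.card_subgroup_dvd_card P').trans (Subgroup.card_subgroup_dvd_card L)
    have hn1 : n = 1 := by
      have h4 : n < 2 := by
        by_contra h5
        apply h2
        refine (pow_dvd_pow p (by omega : 2 ≤ n)).trans ?_
        rw [← hn, ← h1]
        exact h3
      have h5 : n ≠ 0 := by
        rintro rfl
        have h6 := P.dvd_card_of_dvd_card hd
        rw [hn, pow_zero] at h6
        exact hp.out.one_lt.ne' (Nat.dvd_one.1 h6)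
      omega
    rw [h1, hn, hn1, pow_one]
  obtain ⟨y, hy⟩ := exists_prime_orderOf_dvd_card' p (show p ∣ Nat.card P' by rw [hcard])
  have hyo : orderOf (y : L) = p := by rw [Subgroup.orderOf_coe]; exact hy
  have hyP : zpowers (y : L) = P' := by
    apply Subgroup.eq_of_le_of_card_ge
    · rw [zpowers_le]; exact y.2
    · rw [hcard, Nat.card_zpowers, hyo]
  have hsol : Group.IsSolvable (normalizer (P' : Set L)) := by
    have h1 := hN ((y : L) : K) (by rw [Subgroup.orderOf_coe, hyo])
    have h3 : (normalizer (P' : Set L)).map L.subtype ≤ normalizer ((zpowers ((y : L) : K) : Subgroup K) : Set K) := by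
      have h4 : (zpowers ((y : L) : K) : Subgroup K) = P'.map L.subtype := by
        have h5 : (zpowers (y : L)).map L.subtype = P'.map L.subtype := congrArg (Subgroup.map L.subtype) hyP
        rw [← h5, MonoidHom.map_zpowers]; rfl
      rw [h4]
      rintro _ ⟨z, hz, rfl⟩
      rw [Subgroup.mem_normalizer_iff_map_conj_eq]
      refine Subgroup.eq_of_le_of_card_ge ?_ (le_of_eq (Subgroup.card_map_of_injective
        (K := P'.map L.subtype) (MulAut.conj (z : K)).injective).symm)
      rintro _ ⟨_, ⟨a, ha, rfl⟩, rfl⟩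
      exact ⟨z * a * z⁻¹, (Subgroup.mem_normalizer_iff.1 hz a).1 ha, rfl⟩
    have h4 := isSolvable_of_le h3 h1
    exact Group.isSolvable_of_isSolvable_injective
      (f := ((normalizer (P' : Set L)).equivMapOfInjective L.subtype L.subtype_injective).toMonoidHom)
      (MulEquiv.injective _)
  refine isSolvable_of_quotient (solvableRadical L) (rad_solvable L) ?_
  refine Group.isSolvable_of_surjective (f := (QuotientGroup.mk' (solvableRadical L)).comp
    (normalizer (P' : Set L)).subtype) ?_
  intro q
  obtain ⟨l, rfl⟩ := QuotientGroup.mk'_surjective _ q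
  have h5 : l ∈ normalizer (P' : Set L) ⊔ solvableRadical L := by rw [hF]; exact mem_top _
  have hnorm : (solvableRadical L).Normal := rad_normal L
  obtain ⟨a, ha, b, hb, h6⟩ := (Subgroup.mem_sup_of_normal_right (ht := hnorm)).1 h5
  refine ⟨⟨a, ha⟩, ?_⟩
  change QuotientGroup.mk' _ a = QuotientGroup.mk' _ l
  have h7 : QuotientGroup.mk' (solvableRadical L) b = 1 := (QuotientGroup.eq_one_iff b).2 hb
  rw [← h6, map_mul, h7, mul_one]

end Cfsg.Agent.H669.SY
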