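import Cfsg.Agent.H669.SY.Gen

/-!
# S3846: numerical tools for the sporadic rows (helper669)
-/

set_option autoImplicit false
set_option linter.unusedSectionVars false

namespace Cfsg.Agent.H669.SY

open Cfsg Subgroup Cfsg.Agent.H459.Rad Cfsg.Agent.H301.SY

/-- `t ^ i` is not 1 modulo `p` for the powers `t ^ i` dividing `N` -/
theorem left_of {N t p m : ℕ} (hp : 1 < p) (h1 : ¬ t ^ (m + 1) ∣ N) (h2 : ∀ i < m, t ^ (i + 1) % p ≠ 1) :
    ∀ i : ℕ, 0 < i → t ^ i ∣ N → ¬ t ^ i ≡ 1 [MOD p] := by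
  intro i hi hd hm
  have him : i ≤ m := by
    by_contra hc
    exact h1 ((pow_dvd_pow t (by omega)).trans hd)
  apply h2 (i - 1) (by omega)
  rw [Nat.sub_add_cancel hi]
  have h3 : t ^ i % p = 1 % p := hm
  rwa [Nat.mod_eq_of_lt hp] at h3

theorem card_sylow {K : Type*} [Group K] [Finite K] {t k m : ℕ} [ht : Fact t.Prime] (T : Sylow t K)
    (hK : Nat.card K = t ^ k * m) (hm : ¬ t ∣ m) : Nat.card T = t ^ k := by
  have hm0 : m ≠ 0 := by rintro rfl; exact hm (dvd_zero t)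
  rw [T.card_eq_multiplicity, hK, Nat.factorization_mul (pow_ne_zero _ ht.out.ne_zero) hm0, Finsupp.add_apply,
    Nat.Prime.factorization_pow ht.out, Finsupp.single_eq_same, Nat.factorization_eq_zero_of_not_dvd hm, add_zero]

/-- there is a `t`-subgroup with centralizer of order at most `n` -/
def SmallCent (t n : ℕ) (K : Type*) [Group K] : Prop :=
  ∃ Q : Subgroup K, IsPGroup t Q ∧ ∀ W : Subgroup K, (∀ w ∈ W, ∀ u ∈ Q, w * u = u * w) → Nat.card W ≤ n

/-- there is a non-abelian `t`-subgroup -/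
def NonabP (t : ℕ) (K : Type*) [Group K] : Prop :=
  ∃ P : Subgroup K, IsPGroup t P ∧ ∃ x ∈ P, ∃ y ∈ P, x * y ≠ y * x

section

variable {K L : Type*} [Group K] [Group L]

theorem SmallCent.congr {t n : ℕ} (e : K ≃* L) (h : SmallCent t n L) : SmallCent t n K := by
  obtain ⟨Q, hQ, h1⟩ := h
  refine ⟨Q.map e.symm.toMonoidHom, hQ.map _, fun W hW => ?_⟩
  have h2 := h1 (W.map e.toMonoidHom) (by
    rintro _ ⟨w, hw, rfl⟩ u hu
    have h3 := hW w hw (e.symm u) ⟨u, hu, rfl⟩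
    have h4 := congrArg e h3
    rw [map_mul, map_mul, e.apply_symm_apply] at h4
    exact h4)
  rwa [Subgroup.card_map_of_injective e.injective] at h2

theorem NonabP.congr {t : ℕ} (e : K ≃* L) (h : NonabP t L) : NonabP t K := by
  obtain ⟨P, hP, x, hx, y, hy, hxy⟩ := h
  refine ⟨P.map e.symm.toMonoidHom, hP.map _, e.symm x, ⟨x, hx, rfl⟩, e.symm y, ⟨y, hy, rfl⟩, fun h1 => hxy ?_⟩
  rw [← map_mul, ← map_mul] at h1
  exact e.symm.injective h1

end

variable {K : Type*} [Group K] [Finite K]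

/-- the Theorem O alternative of `m0_num` with `SmallCent` : `|W| ≤ c` -/
theorem right_of_smallCent {t p k m c : ℕ} (ht : t.Prime) (hK : Nat.card K = t ^ k * m) (hm : ¬ t ∣ m)
    (hs : SmallCent t c K)
    (h : ∀ a j n : ℕ, a + j = k → p ∣ t ^ a - 1 → t ^ j ∣ p - 1 → 0 < n → p ∣ t ^ n - 1 → n ≤ a →
      ¬ t ^ n ≤ c ^ (t ^ j)) :
    ∃ T : Sylow t K, ∀ a j n : ℕ,
        Nat.card T = t ^ (a + j) → p ∣ t ^ a - 1 → t ^ j ∣ p - 1 → 0 < n → p ∣ t ^ n - 1 → n ≤ a →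
        (∃ W : Subgroup K, W ≤ T ∧ (∀ w ∈ W, ∀ u ∈ (T : Subgroup K), w * u = u * w) ∧ (∀ w ∈ W, w ^ t = 1) ∧
          t ^ n ≤ Nat.card W ^ (t ^ j)) → False := by
  have htF : Fact t.Prime := ⟨ht⟩
  obtain ⟨Q, hQ, h1⟩ := hs
  obtain ⟨T, hT⟩ := hQ.exists_le_sylow
  refine ⟨T, fun a j n h2 h3 h4 h5 h6 h7 ⟨W, _, h8, _, h9⟩ => ?_⟩
  rw [card_sylow T hK hm] at h2
  have h10 : k = a + j := Nat.pow_right_injective ht.two_le h2
  have h11 := h1 W fun w hw u hu => h8 w hw u (hT hu)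
  exact h a j n h10.symm h3 h4 h5 h6 h7 (h9.trans (Nat.pow_le_pow_left h11 _))

/-- the Theorem O alternative of `m0_num`, for non-abelian Sylow subgroups : `|W| < |T|` -/
theorem right_of_nonab {t p k m : ℕ} (ht : t.Prime) (hK : Nat.card K = t ^ k * m) (hm : ¬ t ∣ m)
    (hs : NonabP t K)
    (h : ∀ a j n : ℕ, a + j = k → p ∣ t ^ a - 1 → t ^ j ∣ p - 1 → 0 < n → p ∣ t ^ n - 1 → n ≤ a →
      ∀ c : ℕ, c < t ^ k → ¬ t ^ n ≤ c ^ (t ^ j)) :
    ∃ T : Sylow t K, ∀ a j n : ℕ,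
        Nat.card T = t ^ (a + j) → p ∣ t ^ a - 1 → t ^ j ∣ p - 1 → 0 < n → p ∣ t ^ n - 1 → n ≤ a →
        (∃ W : Subgroup K, W ≤ T ∧ (∀ w ∈ W, ∀ u ∈ (T : Subgroup K), w * u = u * w) ∧ (∀ w ∈ W, w ^ t = 1) ∧
          t ^ n ≤ Nat.card W ^ (t ^ j)) → False := by
  have htF : Fact t.Prime := ⟨ht⟩
  obtain ⟨Q, hQ, x, hx, y, hy, hxy⟩ := hs
  obtain ⟨T, hT⟩ := hQ.exists_le_sylow
  refine ⟨T, fun a j n h2 h3 h4 h5 h6 h7 ⟨W, hWT, h8, _, h9⟩ => ?_⟩
  have hc := card_sylow T hK hm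
  rw [hc] at h2
  have h10 : k = a + j := Nat.pow_right_injective ht.two_le h2
  refine h a j n h10.symm h3 h4 h5 h6 h7 _ ?_ h9
  by_contra hlt
  have h11 : W = T := by
    apply Subgroup.eq_of_le_of_card_ge hWT
    rw [hc]
    omega
  apply hxy
  exact h8 x (h11 ▸ hT hx) y (hT hy)

/-- the centre of a group with an extraspecial normal subgroup of its involution centralizer -/
theorem smallCent_of_extraspecial {z : K} {t n : ℕ}
    (Q : Subgroup (centralizer ({z} : Set K))) (hQ : IsPGroup t Q)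
    (hc : centralizer (Q : Set (centralizer ({z} : Set K))) ≤ Q) (hZ : Nat.card (center Q) ≤ n) : SmallCent t n K := by
  refine ⟨Q.map (centralizer ({z} : Set K)).subtype, hQ.map _, fun W hW => ?_⟩
  have hzc : z ∈ centralizer ({z} : Set K) := mem_centralizer_singleton_iff.2 rfl
  have hzQ : (⟨z, hzc⟩ : centralizer ({z} : Set K)) ∈ Q := by
    apply hc
    rw [mem_centralizer_iff]
    intro q _
    exact Subtype.ext (mem_centralizer_singleton_iff.1 q.2)
  have hWz : ∀ w ∈ W, w ∈ centralizer ({z} : Set K) := fun w hw =>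
    mem_centralizer_singleton_iff.2 (hW w hw z ⟨⟨z, hzc⟩, hzQ, rfl⟩)
  have hWQ : ∀ (w : K) (hw : w ∈ W), (⟨w, hWz w hw⟩ : centralizer ({z} : Set K)) ∈ Q := by
    intro w hw
    apply hc
    rw [mem_centralizer_iff]
    intro q hq
    exact Subtype.ext (hW w hw q ⟨q, hq, rfl⟩).symm
  let f : W → center Q := fun w => ⟨⟨⟨w, hWz w w.2⟩, hWQ w w.2⟩, by
    rw [mem_center_iff]
    intro q
    exact Subtype.ext (Subtype.ext (hW w w.2 ((q : Q) : centralizer ({z} : Set K)) ⟨q, q.2, rfl⟩).symm)⟩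
  have hf : Function.Injective f := by
    intro a b hab
    have h1 := congrArg (fun u : center Q => (((u : Q) : centralizer ({z} : Set K)) : K)) hab
    exact Subtype.ext h1
  exact (Nat.card_le_card_of_injective f hf).trans hZ

end Cfsg.Agent.H669.SY
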